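import Cfsg.Agent.Lib.Spor.Fi22Out.Data
import Cfsg.Agent.Lib.Spor.OutKit.Parts

/-!
Kernel checks of the certificate.
-/

namespace CfsgLib.SporOut.Fi22

open CfsgLib.PresCert

theorem b3_ok_0 : onRange 1755 195 data.okBat = true := by decide +kernel

theorem b3_ok_1 : onRange 1950 195 data.okBat = true := by decide +kernel

theorem b3_ok_2 : onRange 2145 195 data.okBat = true := by decide +kernel

theorem b3_ok : onRange 1755 585 data.okBat = true := by
  refine allBelow_intro (by norm_num) fun i hi => ?_
  rcases lt_or_ge i 195 with h | h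
  · exact onRange_spec b3_ok_0 (Nat.le_add_right 1755 i) (show 1755 + i < 1755 + 195 by omega)
  rcases lt_or_ge i 390 with h2 | h2
  · exact onRange_spec b3_ok_1 (show 1950 ≤ 1755 + i by omega) (show 1755 + i < 1950 + 195 by omega)
  · exact onRange_spec b3_ok_2 (show 2145 ≤ 1755 + i by omega) (show 1755 + i < 2145 + 195 by omega)

end CfsgLib.SporOut.Fi22
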