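import Cfsg.Agent.Lib.Spor.Fi22Out.Data
import Cfsg.Agent.Lib.Spor.OutKit.Parts

/-!
Kernel checks of the certificate.
-/

namespace CfsgLib.SporOut.Fi22

open CfsgLib.PresCert

theorem levA_ok : data.D.okLevels [] data.lA = true := by decide +kernel

theorem levB_ok : data.D.okLevels [] data.lB = true := by decide +kernel

theorem inv_ok : data.cA.okInv = true := by decide +kernel

theorem cent_ok : data.okCent = true := by decide +kernel

theorem outer_ok : data.okOuter = true := by decide +kernel

theorem expA_ok : data.okExp data.lA data.xA 0 data.eA = true := by decide +kernel

theorem expB_ok : data.okExp data.lB data.xB 1 data.eB = true := by decide +kernel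

end CfsgLib.SporOut.Fi22
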