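import Cfsg.Agent.Lib.Spor.Fi22Out.Data
import Cfsg.Agent.Lib.Spor.OutKit.Parts

/-!
Kernel checks of the certificate.
-/

namespace CfsgLib.SporOut.Fi22

open CfsgLib.PresCert

theorem rel_ok : data.okRel = true := by decide +kernel

theorem sig_ok : data.okSig = true := by decide +kernel

end CfsgLib.SporOut.Fi22
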