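import Cfsg.Agent.Lib.Spor.Fi22Out.Data
import Cfsg.Agent.Lib.Spor.Fi22Out.Mem

/-!
The chosen elements among the words in the generators.
-/

namespace CfsgLib.SporOut.Fi22

open CfsgLib.PresCert

theorem memIdx_ok : ((List.range 3).all fun l => Nat.blt (memIdx.getD l 0) memData.N &&
    allBelow 3510 fun i => Nat.beq (memData.img (memIdx.getD l 0) i) (data.D.img l i)) = true := by
  decide +kernel

end CfsgLib.SporOut.Fi22
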