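import Cfsg.Agent.Lib.Spor.Fi22Out.Mem
import Cfsg.Agent.Lib.Spor.OutKit.Parts

/-!
Kernel checks of the certificate.
-/

namespace CfsgLib.SporOut.Fi22

open CfsgLib.PresCert

theorem memWords2_ok_fst : memData.okWords 45 ((memData.words.drop 36).take 9) = true := by decide +kernel

theorem memWords2_ok_snd : memData.okWords 54 ((memData.words.drop 45).take 9) = true := by decide +kernel

theorem memWords2_ok : memData.okWords 45 ((memData.words.drop 36).take 18) = true := by
  rw [show (memData.words.drop 36).take 18 =
    (memData.words.drop 36).take 9 ++ (memData.words.drop 45).take 9 by decide +kernel]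
  refine Tab.okWords_append _ _ _ _ memWords2_ok_fst ?_
  rw [show 45 + ((memData.words.drop 36).take 9).length = 54 by decide +kernel]
  exact memWords2_ok_snd

end CfsgLib.SporOut.Fi22
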