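import Cfsg.Agent.Lib.Spor.Fi22Out.RelCheck

/-!
Part of the check of the relations.
-/

namespace CfsgLib.SporOut.Fi22

open CfsgLib.PresCert

theorem rels3_ok : (((relW.drop 83).take 2).all fun w => allBelow memData.n fun i =>
    Nat.beq (memData.app w i) i) = true := by
  decide +kernel

end CfsgLib.SporOut.Fi22
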