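import Cfsg.Agent.Lib.Spor.Fi22Out.RelPart0
import Cfsg.Agent.Lib.Spor.Fi22Out.RelPart1
import Cfsg.Agent.Lib.Spor.Fi22Out.RelPart2
import Cfsg.Agent.Lib.Spor.Fi22Out.RelPart3

/-!
The representation of the presented group Fi22 on 3510 points.
-/

set_option autoImplicit false

namespace CfsgLib.SporOut.Fi22

open CfsgLib.PresCert Cfsg.Spor Equiv

theorem rels_ok : (relW.all fun w => allBelow memData.n fun i =>
    Nat.beq (memData.app w i) i) = true := by
  have e : relW = (relW.drop 0).take 45 ++ ((relW.drop 45).take 37 ++ ((relW.drop 82).take 1 ++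
      (relW.drop 83).take 2)) := by decide +kernel
  rw [e, List.all_append, List.all_append, List.all_append, rels0_ok, rels1_ok, rels2_ok,
    rels3_ok]
  rfl

theorem img_invol {k : ℕ} (hk : k < 9) (i : Fin memData.n) :
    memData.img k i < memData.n ∧ memData.img k (memData.img k i) = i := by
  have := List.all_eq_true.1 (allBelow_spec invol_ok i i.2) k (List.mem_range.2 hk)
  simpa using this

/-- the permutation of a generator -/
noncomputable def genP (x : Fi22.Gen) : Perm (Fin memData.n) :=
  Function.Involutive.toPerm (fun i => ⟨memData.img (idx x) i, (img_invol (idx_lt x) i).1⟩)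
    fun i => Fin.ext (img_invol (idx_lt x) i).2

theorem genP_img (x : Fi22.Gen) (i : Fin memData.n) :
    ((genP x i : Fin memData.n) : ℕ) = memData.img (idx x) i := rfl

theorem genP_sq (x : Fi22.Gen) : genP x * genP x = 1 :=
  Equiv.ext fun i => Fin.ext (img_invol (idx_lt x) i).2

theorem prod_img : ∀ (w : List Fi22.Gen) (i : Fin memData.n),
    (((w.map genP).prod i : Fin memData.n) : ℕ) = memData.app (w.map idx).reverse i
  | [], i => by simp
  | x :: w, i => by
    rw [List.map_cons, List.prod_cons, Perm.mul_apply, genP_img, prod_img w, List.map_cons,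
      List.reverse_cons, Tab.app_append]
    simp

theorem word_one (w : List Fi22.Gen) (hw : w ∈ relL) :
    (w.map genP).prod = 1 := by
  refine Equiv.ext fun i => Fin.ext ?_
  rw [prod_img]
  exact Nat.eq_of_beq_eq_true
    (allBelow_spec (List.all_eq_true.1 rels_ok _ (List.mem_map.2 ⟨w, hw, rfl⟩)) i i.2)

/-- the representation -/
noncomputable def π : Cfsg.Spor.Fi22 →* Perm (Fin memData.n) :=
  PresentedGroup.toGroup (f := genP) (by
    rintro r (⟨x, hx, y, hy, rfl⟩ | hr)
    · have := word_one (pairWord Fi22.edges x y)
        (pair_mem x y)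
      rw [pairWord, prod_map_replicate_pair] at this
      simpa using this
    · have e := wordsFor genP genP_sq
      have : FreeGroup.lift genP r ∈ extraW.map fun w => (w.map genP).prod :=
        e ▸ List.mem_map.2 ⟨r, hr, rfl⟩
      obtain ⟨w, hwm, e'⟩ := List.mem_map.1 this
      rw [← e']
      exact word_one w (List.mem_append_right _ hwm))

theorem π_of (x : Fi22.Gen) : π (PresentedGroup.of x) = genP x := PresentedGroup.toGroup.of _

end CfsgLib.SporOut.Fi22
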