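import Cfsg.Agent.Lib.Spor.Fi22Out.Data
import Cfsg.Agent.Lib.Spor.OutKit.Parts

/-!
Kernel checks of the certificate.
-/

namespace CfsgLib.SporOut.Fi22

open CfsgLib.PresCert

theorem words2_ok_fst : data.D.okWords 23 ((data.D.words.drop 20).take 5) = true := by decide +kernel

theorem words2_ok_snd : data.D.okWords 28 ((data.D.words.drop 25).take 6) = true := by decide +kernel

theorem words2_ok : data.D.okWords 23 ((data.D.words.drop 20).take 11) = true := by
  rw [show (data.D.words.drop 20).take 11 =
    (data.D.words.drop 20).take 5 ++ (data.D.words.drop 25).take 6 by decide +kernel]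
  refine Tab.okWords_append _ _ _ _ words2_ok_fst ?_
  rw [show 23 + ((data.D.words.drop 20).take 5).length = 28 by decide +kernel]
  exact words2_ok_snd

end CfsgLib.SporOut.Fi22
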