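import Cfsg.Agent.Lib.Spor.Fi22Out.Words0
import Cfsg.Agent.Lib.Spor.Fi22Out.Words1
import Cfsg.Agent.Lib.Spor.Fi22Out.Words2
import Cfsg.Agent.Lib.Spor.Fi22Out.Words3
import Cfsg.Agent.Lib.Spor.Fi22Out.MemWords0
import Cfsg.Agent.Lib.Spor.Fi22Out.MemWords1
import Cfsg.Agent.Lib.Spor.Fi22Out.MemWords2
import Cfsg.Agent.Lib.Spor.Fi22Out.CheckA0
import Cfsg.Agent.Lib.Spor.Fi22Out.CheckA1
import Cfsg.Agent.Lib.Spor.Fi22Out.CheckA2
import Cfsg.Agent.Lib.Spor.Fi22Out.CheckB0
import Cfsg.Agent.Lib.Spor.Fi22Out.CheckB1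
import Cfsg.Agent.Lib.Spor.Fi22Out.CheckB2
import Cfsg.Agent.Lib.Spor.Fi22Out.CheckB3
import Cfsg.Agent.Lib.Spor.Fi22Out.CheckB4
import Cfsg.Agent.Lib.Spor.Fi22Out.CheckB5
import Cfsg.Agent.Lib.Spor.Fi22Out.CheckC
import Cfsg.Agent.Lib.Spor.Fi22Out.CheckD
import Cfsg.Agent.Lib.Spor.Fi22Out.CheckMem
import Cfsg.Agent.Lib.Spor.Fi22Out.Rep

/-!
The outer automorphism group of the presented group Fi22 has order two, given its order.
-/

set_option autoImplicit false

namespace CfsgLib.SporOut.Fi22

open CfsgLib.PresCert Cfsg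

theorem wordsLen : data.D.words.length = 41 := by decide +kernel

theorem memWordsLen : memData.words.length = 54 := by decide +kernel

theorem words_ok : data.D.okWords data.D.g data.D.words = true := by
  have e : data.D.words = (data.D.words.drop 0).take 10 ++ ((data.D.words.drop 10).take 10 ++
      ((data.D.words.drop 20).take 11 ++ (data.D.words.drop 31).take 10)) := by decide +kernel
  rw [e]
  refine Tab.okWords_append _ _ _ _ words0_ok (Tab.okWords_append _ _ _ _ ?_
    (Tab.okWords_append _ _ _ _ ?_ ?_))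
  · simpa [wordsLen, show data.D.g = 3 from rfl] using words1_ok
  · simpa [wordsLen, show data.D.g = 3 from rfl] using words2_ok
  · simpa [wordsLen, show data.D.g = 3 from rfl] using words3_ok

theorem memWords_ok : memData.okWords memData.g memData.words = true := by
  have e : memData.words = (memData.words.drop 0).take 18 ++ ((memData.words.drop 18).take 18 ++
      (memData.words.drop 36).take 18) := by decide +kernel
  rw [e]
  refine Tab.okWords_append _ _ _ _ memWords0_ok (Tab.okWords_append _ _ _ _ ?_ ?_)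
  · simpa [memWordsLen, show memData.g = 9 from rfl] using memWords1_ok
  · simpa [memWordsLen, show memData.g = 9 from rfl] using memWords2_ok

theorem a_ok : data.okA = true := by
  refine data.okA_of (by decide +kernel) fun y hy => ?_
  have hy' : y < 3510 := hy
  rcases lt_or_ge y 1170 with h | h
  · exact onRange_spec a0_ok (Nat.zero_le y) h
  rcases lt_or_ge y 2340 with h2 | h2
  · exact onRange_spec a1_ok h h2
  · exact onRange_spec a2_ok h2 hy'

theorem b_ok : data.okB = true := by
  refine data.okB_of (by decide +kernel) fun y hy => ?_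
  have hy' : y < 3510 := hy
  rcases lt_or_ge y 585 with h | h
  · exact onRange_spec b0_ok (Nat.zero_le y) h
  rcases lt_or_ge y 1170 with h2 | h2
  · exact onRange_spec b1_ok h h2
  rcases lt_or_ge y 1755 with h3 | h3
  · exact onRange_spec b2_ok h2 h3
  rcases lt_or_ge y 2340 with h4 | h4
  · exact onRange_spec b3_ok h3 h4
  rcases lt_or_ge y 2925 with h5 | h5
  · exact onRange_spec b4_ok h4 h5
  · exact onRange_spec b5_ok h5 hy'

theorem valid : data.Valid where
  words := words_ok
  three := rfl
  inv := inv_ok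
  levA := levA_ok
  levB := levB_ok
  expA := expA_ok
  expB := expB_ok
  xA := by decide +kernel
  s1 := by decide +kernel
  hs := by decide +kernel
  rel := rel_ok
  a := a_ok
  b := b_ok
  npairs := by decide +kernel
  sig := sig_ok
  cent := cent_ok
  outer := outer_ok

/-- the three elements -/
theorem exists_gens : ∀ l, ∃ x : Cfsg.Spor.Fi22, l < 3 → ∀ i : Fin data.D.n,
    ((π x i : Fin data.D.n) : ℕ) = data.D.img l i := by
  intro l
  by_cases hl : l < 3
  swap
  · exact ⟨1, fun h => absurd h hl⟩
  let I : memData.Interp :=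
    ⟨fun k => π (PresentedGroup.of (letter k)), fun k hk i => by
      rw [π_of, genP_img, idx_letter k hk]⟩
  have h := List.all_eq_true.1 memIdx_ok l (List.mem_range.2 hl)
  rw [Bool.and_eq_true, Nat.blt_eq] at h
  obtain ⟨σ, hσ, he⟩ := Tab.elem_exists I memWords_ok _ h.1
  have hle : Tab.grp I ≤ π.range := (Subgroup.closure_le _).2 fun τ ⟨k, _, e⟩ => ⟨_, e⟩
  obtain ⟨x, rfl⟩ := hle hσ
  exact ⟨x, fun _ i => (he i).trans (Nat.eq_of_beq_eq_true (allBelow_spec h.2 i i.2))⟩

theorem card_out (hN : Nat.card Cfsg.Spor.Fi22 = 64561751654400) :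
    Nat.card (Out Cfsg.Spor.Fi22) = 2 := by
  have : Finite Cfsg.Spor.Fi22 := Nat.finite_of_card_ne_zero (by rw [hN]; norm_num)
  choose gens hgens using exists_gens
  have : Fact data.p.Prime := ⟨by decide +kernel⟩
  exact natCard_out_eq_two data valid hN (by decide +kernel)
    (by decide +kernel) (by decide +kernel) π gens hgens

end CfsgLib.SporOut.Fi22
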