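import Cfsg.Agent.Lib.Spor.Fi22Out.Words
import Cfsg.Agent.Lib.Spor.Fi22Out.Mem

/-!
The nine permutations satisfy the relations.
-/

namespace CfsgLib.SporOut.Fi22

open CfsgLib.PresCert Cfsg.Spor

theorem invol_ok : (allBelow memData.n fun i => (List.range 9).all fun k =>
    Nat.blt (memData.img k i) memData.n && Nat.beq (memData.img k (memData.img k i)) i) = true := by
  decide +kernel

/-- all relator words, as numbers -/
def relL : List (List Fi22.Gen) :=
  ([.a, .b, .c, .d, .e, .f, .g, .h, .i].flatMap fun x : Fi22.Gen =>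
    [.a, .b, .c, .d, .e, .f, .g, .h, .i].map fun y : Fi22.Gen => pairWord Fi22.edges x y) ++ extraW

theorem pair_mem (x y : Fi22.Gen) : pairWord Fi22.edges x y ∈ relL := by
  refine List.mem_append_left _ (List.mem_flatMap.2 ⟨x, ?_, List.mem_map.2 ⟨y, ?_, rfl⟩⟩) <;>
    [cases x; cases y] <;> simp

/-- their numbers -/
def relW : List (List ℕ) := relL.map fun w => (w.map idx).reverse

end CfsgLib.SporOut.Fi22
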