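import Cfsg.Agent.Lib.PresCert.Presented
import Cfsg.Prelude.Def_Spor_Fi22

/-!
Relator words of the presented group Fi22.
-/

namespace CfsgLib.SporOut.Fi22

open CfsgLib.PresCert Cfsg.Spor

/-- the further relators as words -/
def extraW : List (List Fi22.Gen) :=
  [(List.replicate 10 [.d, .c, .b, .d, .e, .f, .d, .h, .i]).flatten,
   (List.replicate 9 [.a, .b, .c, .d, .e, .f, .h]).flatten,
   (List.replicate 9 [.b, .c, .d, .e, .f, .g, .h]).flatten]

/-- numbering of the generators -/
def idx : Fi22.Gen → ℕ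
  | .a => 0 | .b => 1 | .c => 2 | .d => 3 | .e => 4 | .f => 5 | .g => 6 | .h => 7 | .i => 8

/-- the letters by number -/
def letter : ℕ → Fi22.Gen
  | 0 => .a | 1 => .b | 2 => .c | 3 => .d | 4 => .e | 5 => .f | 6 => .g | 7 => .h | _ => .i

theorem idx_letter : ∀ k < 9, idx (letter k) = k := by decide

theorem idx_lt (x : Fi22.Gen) : idx x < 9 := by cases x <;> decide

theorem mem_nodes : ∀ x : Fi22.Gen, x ∈ coxNodes Fi22.edges := by
  intro x; cases x <;> decide

theorem wordsFor : WordsFor Fi22.extra extraW := by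
  intro Q _ f hf
  simp [Fi22.extra, extraW, Fi22.a, Fi22.b, Fi22.c, Fi22.d, Fi22.e, Fi22.f, Fi22.g, Fi22.h,
    Fi22.i, pow_succ, List.replicate_succ, mul_assoc]

end CfsgLib.SporOut.Fi22
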